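import Groth.Agent.GrModLib.SelfTwist
import Groth.Agent.QCohBase.Finite
import Mathlib.RingTheory.Noetherian.Basic

/-! Finiteness of the sections of `A(n)~` on standard opens, for `A` noetherian. -/

set_option autoImplicit false
set_option backward.isDefEq.respectTransparency false
set_option backward.isDefEq.respectTransparency.types false
set_option linter.unusedSectionVars false

noncomputable section

universe u

open CategoryTheory AlgebraicGeometry Opposite TopologicalSpace HomogeneousLocalization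
open Groth.Agent.QCohBase

namespace Groth.Agent.GrModLib

variable {A σ : Type u} [CommRing A] [SetLike σ A] [AddSubgroupClass σ A] (𝒜 : ℕ → σ) [GradedRing 𝒜]
/-- The value at a point, additively. -/
def valHom (n : ℤ) {U : Opens (ProjectiveSpectrum.top 𝒜)} (y : U) :
    GrMod.sect 𝒜 𝒜 n (op U) →+ GrMod.LocMod 𝒜 (M := A) y.1 where
  toFun t := val 𝒜 𝒜 t y
  map_zero' := rfl
  map_add' _ _ := rfl

/-- The value at a point of a section of the sheaf. -/
def valG (n : ℤ) (U : (Proj 𝒜).Opens) (y : U) :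
    Γ(GrMod.tilde 𝒜 𝒜 n, U) →+ GrMod.LocMod 𝒜 (M := A) y.1 := valHom 𝒜 n (U := U) y

/-- Numerators, additively. -/
def mkHom (y : ProjectiveSpectrum 𝒜) (t : y.asHomogeneousIdeal.toIdeal.primeCompl) :
    A →+ GrMod.LocMod 𝒜 (M := A) y where
  toFun a := LocalizedModule.mk a t
  map_zero' := LocalizedModule.zero_mk _
  map_add' a b := by
    rw [LocalizedModule.mk_add_mk, LocalizedModule.mk_eq]
    exact ⟨1, by simp only [Submonoid.smul_def, one_smul, smul_eq_mul, Submonoid.coe_mul]; ring⟩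

variable [IsNoetherianRing A]

set_option maxHeartbeats 1600000 in
theorem finite_sections_tilde (n : ℤ) {d : ℕ} (hd : 0 < d) {f : A} (hf : f ∈ 𝒜 d) :
    Module.Finite Γ(Proj 𝒜, Proj.basicOpen 𝒜 f) Γ(GrMod.tilde 𝒜 𝒜 n, Proj.basicOpen 𝒜 f) := by
  classical
  let S : Set A := {m | ∃ l i : ℕ, m ∈ 𝒜 i ∧ (i : ℤ) = l * d + n}
  obtain ⟨T, hTS, hT⟩ := Submodule.fg_span_iff_fg_span_finset_subset S |>.1
    (IsNoetherian.noetherian (Submodule.span A S))
  choose l i hi hli using fun g : T => hTS g.2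
  have hpow : ∀ (j : ℕ) (y : Proj.basicOpen 𝒜 f), f ^ j ∉ y.1.asHomogeneousIdeal :=
    fun j y h => y.2 (y.1.isPrime.mem_of_pow_mem j h)
  let gen : T → Γ(GrMod.tilde 𝒜 𝒜 n, Proj.basicOpen 𝒜 f) := fun g =>
    frac 𝒜 𝒜 n _ (⟨g.1, hi g⟩ : 𝒜 (i g)) ⟨f ^ (l g), SetLike.pow_mem_graded (l g) hf⟩
      (fun y => hpow (l g) y) (Or.inl (by rw [hli g, smul_eq_mul]; push_cast; ring))
  refine ⟨⟨Finset.univ.image gen, eq_top_iff.2 fun s _ => ?_⟩⟩
  rw [Finset.coe_image, Finset.coe_univ, Set.image_univ, Submodule.mem_span_range_iff_exists_fun]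
  obtain ⟨k, I, m, hI, hm⟩ := exists_eq_frac 𝒜 𝒜 n hd hf (Proj.isAffineOpen_basicOpen 𝒜 f hf hd).isCompact s
  have hmS : (m.1 : A) ∈ Submodule.span A S := Submodule.subset_span ⟨k, I, m.2, hI⟩
  rw [hT] at hmS
  obtain ⟨r, -, hr⟩ := Submodule.mem_span_finset.1 hmS
  have hle : ∀ g : T, l g ≤ k → (k - l g) • d + i g = I := fun g hg => by
    have h1 := hli g
    have h2 : ((k - l g : ℕ) : ℤ) = (k : ℤ) - l g := by push_cast [hg]; ring
    have h3 : (((k - l g) • d + i g : ℕ) : ℤ) = I := by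
      push_cast [smul_eq_mul, h2]; rw [h1, hI]; ring
    exact_mod_cast h3
  let c : T → A := fun g => if l g ≤ k then (DirectSum.decompose 𝒜 (r g.1) ((k - l g) • d) : A) else 0
  have hc : ∀ g : T, c g ∈ 𝒜 ((k - l g) • d) := fun g => by
    simp only [c]; split_ifs
    · exact SetLike.coe_mem _
    · exact zero_mem _
  have hsum : (m.1 : A) = ∑ g : T, c g * g.1 := by
    conv_lhs => rw [← DirectSum.decompose_of_mem_same 𝒜 m.2, ← hr, DirectSum.decompose_sum,
      DFinsupp.finsetSum_apply, AddSubmonoidClass.coe_finsetSum, ← Finset.sum_coe_sort T]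
    refine Finset.sum_congr rfl fun g _ => ?_
    rw [smul_eq_mul, coe_decompose_mul_right 𝒜 _ (hi g)]
    by_cases hg : l g ≤ k
    · have h := hle g hg
      simp only [c, if_pos hg]
      rw [if_pos (by omega), show I - i g = (k - l g) • d by omega]
    · simp only [c, if_neg hg, zero_mul]
      rw [if_neg]
      intro hI'
      have h1 := hli g
      have h2 : (l g : ℤ) * d ≤ (k : ℤ) * d := by
        have : (i g : ℤ) ≤ I := by exact_mod_cast hI'
        omega
      exact hg (by exact_mod_cast Int.le_of_mul_le_mul_right h2 (by exact_mod_cast hd))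
  refine ⟨fun g => (Proj.awayToSection 𝒜 f).hom (Away.mk 𝒜 hf (k - l g) (c g) (hc g)), ?_⟩
  refine sect_ext (n := n) (U := (Proj.basicOpen 𝒜 f : Opens (ProjectiveSpectrum.top 𝒜))) 𝒜 𝒜 fun y => ?_
  have hv : valG 𝒜 n (Proj.basicOpen 𝒜 f) y (∑ g : T, (Proj.awayToSection 𝒜 f).hom (Away.mk 𝒜 hf (k - l g) (c g) (hc g)) • gen g) =
      ∑ g : T, valG 𝒜 n (Proj.basicOpen 𝒜 f) y ((Proj.awayToSection 𝒜 f).hom (Away.mk 𝒜 hf (k - l g) (c g) (hc g)) • gen g) :=
    map_sum (valG 𝒜 n (Proj.basicOpen 𝒜 f) y) _ _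
  refine hv.trans (Eq.trans ?_ (hm y).symm)
  have hterm : ∀ g : T, valG 𝒜 n (Proj.basicOpen 𝒜 f) y ((Proj.awayToSection 𝒜 f).hom (Away.mk 𝒜 hf (k - l g) (c g) (hc g)) • gen g) =
      LocalizedModule.mk (c g * g.1) ⟨f ^ k, hpow k y⟩ := fun g => by
    refine (val_smul 𝒜 𝒜 _ (gen g) y).trans ?_
    erw [val_awayToSection 𝒜 hf (k - l g) (c g) (hc g) y, val_frac]
    rw [LocalizedModule.mk_smul_mk, LocalizedModule.mk_eq]
    refine ⟨1, ?_⟩
    simp only [Submonoid.smul_def, one_smul, Submonoid.coe_mul, smul_eq_mul]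
    by_cases hg : l g ≤ k
    · rw [← pow_add, Nat.sub_add_cancel hg]
    · simp [c, if_neg hg]
  rw [Finset.sum_congr rfl fun g _ => hterm g, hsum]
  exact (map_sum (mkHom 𝒜 y.1 ⟨f ^ k, hpow k y⟩) _ _).symm

end Groth.Agent.GrModLib
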