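import Groth.Agent.GrModLib.Basic
import Mathlib.AlgebraicGeometry.ProjectiveSpectrum.Basic

/-! Sections of `M(n)~` on standard opens. -/

set_option autoImplicit false
set_option backward.isDefEq.respectTransparency false
set_option backward.isDefEq.respectTransparency.types false
set_option linter.unusedSectionVars false

noncomputable section

universe u

open CategoryTheory AlgebraicGeometry Opposite TopologicalSpace

namespace Groth.Agent.GrModLib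

variable {A σ : Type u} [CommRing A] [SetLike σ A] [AddSubgroupClass σ A] (𝒜 : ℕ → σ) [GradedRing 𝒜]
variable {M τ : Type u} [AddCommGroup M] [Module A M] [SetLike τ M] [AddSubgroupClass τ M] (ℳ : ℕ → τ)
variable [SetLike.GradedSMul 𝒜 ℳ]

/-- The value of a section. -/
abbrev val {n : ℤ} {U : Opens (ProjectiveSpectrum.top 𝒜)} (s : GrMod.sect 𝒜 ℳ n (op U)) (x : U) :
    GrMod.LocMod 𝒜 (M := M) x.1 := (s.1 x).1

lemma sect_ext {n : ℤ} {U : Opens (ProjectiveSpectrum.top 𝒜)} {s t : GrMod.sect 𝒜 ℳ n (op U)}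
    (h : ∀ x : U, val 𝒜 ℳ s x = val 𝒜 ℳ t x) : s = t :=
  Subtype.ext (funext fun x ↦ Subtype.ext (h x))

/-- The section given by one fraction. -/
def frac (n : ℤ) (U : Opens (ProjectiveSpectrum.top 𝒜)) {i j : ℕ} (m : ℳ i) (g : 𝒜 j)
    (nin : ∀ x : U, g.1 ∉ x.1.asHomogeneousIdeal) (h : (i : ℤ) = j + n ∨ m.1 = 0) : GrMod.sect 𝒜 ℳ n (op U) :=
  ⟨fun x ↦ ⟨LocalizedModule.mk m.1 ⟨g.1, nin x⟩, by
      rcases h with h | h
      · exact Submodule.subset_span ⟨i, j, m, g, nin x, h, rfl⟩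
      · rw [h, LocalizedModule.zero_mk]; exact zero_mem _⟩,
    fun x ↦ ⟨U, x.2, 𝟙 _, i, j, m, g, nin, h, fun _ ↦ rfl⟩⟩

lemma val_frac (n : ℤ) (U : Opens (ProjectiveSpectrum.top 𝒜)) {i j : ℕ} (m : ℳ i) (g : 𝒜 j)
    (nin : ∀ x : U, g.1 ∉ x.1.asHomogeneousIdeal) (h : (i : ℤ) = j + n ∨ m.1 = 0) (x : U) :
    val 𝒜 ℳ (frac 𝒜 ℳ n U m g nin h) x = LocalizedModule.mk m.1 ⟨g.1, nin x⟩ := rfl

variable [DirectSum.Decomposition ℳ]

lemma coe_decompose_mul_right (r : A) {b : A} {i : ℕ} (hb : b ∈ 𝒜 i) (k : ℕ) :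
    (DirectSum.decompose 𝒜 (r * b) k : A) =
      if i ≤ k then (DirectSum.decompose 𝒜 r (k - i) : A) * b else 0 := by
  rw [DirectSum.coe_decompose_mul_of_right_mem 𝒜 k hb]

/-- Sections on `D₊(f)` are fractions with denominator a power of `f`. -/
theorem exists_eq_frac (n : ℤ) {d : ℕ} (hd : 0 < d) {f : A} (hf : f ∈ 𝒜 d) (hN : IsCompact
    (ProjectiveSpectrum.basicOpen 𝒜 f : Set (ProjectiveSpectrum 𝒜)))
    (s : GrMod.sect 𝒜 ℳ n (op (ProjectiveSpectrum.basicOpen 𝒜 f))) :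
    ∃ (k i : ℕ) (m : ℳ i), (i : ℤ) = k * d + n ∧
      ∀ x : ProjectiveSpectrum.basicOpen 𝒜 f, val 𝒜 ℳ s x =
        (LocalizedModule.mk m.1 ⟨f ^ k, fun h => (ProjectiveSpectrum.mem_basicOpen 𝒜 f x.1).mp x.2
            (x.1.isPrime.mem_of_pow_mem k h)⟩ : GrMod.LocMod 𝒜 (M := M) x.1) := by
  classical
  let D := ProjectiveSpectrum.basicOpen 𝒜 f
  -- local normal form
  have hloc : ∀ x : D, ∃ (E : ℕ) (I : ℕ) (a : ℳ I) (G : 𝒜 E), 0 < E ∧ d ∣ E ∧ (I : ℤ) = E + n ∧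
      G.1 ∉ x.1.asHomogeneousIdeal ∧ (∀ y : ProjectiveSpectrum 𝒜, G.1 ∉ y.asHomogeneousIdeal → y ∈ D) ∧
      ∀ (y : D) (hy : G.1 ∉ y.1.asHomogeneousIdeal), val 𝒜 ℳ s y = LocalizedModule.mk a.1 ⟨G.1, hy⟩ := by
    intro x
    obtain ⟨W, hxW, iW, i, j, m, t, nin, hdeg, hw⟩ := s.2 x
    obtain ⟨_, ⟨h', rfl⟩, hxh', hh'W⟩ :=
      TopologicalSpace.Opens.isBasis_iff_nbhd.1 (Proj.isBasis_basicOpen 𝒜) (U := (W : (Proj 𝒜).Opens)) hxW
    rw [Proj.basicOpen_eq_iSup_proj] at hxh'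
    obtain ⟨l, hl⟩ := Opens.mem_iSup.mp hxh'
    let h₀ : A := GradedRing.proj 𝒜 l h'
    have hh₀ : h₀ ∈ 𝒜 l := SetLike.coe_mem _
    have hle : ∀ y : ProjectiveSpectrum 𝒜, h₀ ∉ y.asHomogeneousIdeal → y ∈ W := fun y hy ↦ hh'W (by
      rw [Proj.basicOpen_eq_iSup_proj]; exact Opens.mem_iSup.mpr ⟨l, hy⟩)
    let Q := n.natAbs + 1
    let c := h₀ * f ^ Q
    have hc : c ∈ 𝒜 (l + Q * d) := SetLike.mul_mem_graded hh₀ (SetLike.pow_mem_graded Q hf)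
    let g := t.1 * c
    have hg : g ∈ 𝒜 (j + (l + Q * d)) := SetLike.mul_mem_graded t.2 hc
    have hQd : Q ≤ Q * d := Nat.le_mul_of_pos_right Q hd
    have he : 0 < j + (l + Q * d) := by omega
    obtain ⟨e, he'⟩ : ∃ e, e = j + (l + Q * d) := ⟨_, rfl⟩
    rw [← he'] at hg he
    have hE : e ≤ e * d := Nat.le_mul_of_pos_right e hd
    obtain ⟨I, hI⟩ : ∃ I : ℕ, (I : ℤ) = ((e * d : ℕ) : ℤ) + n :=
      ⟨(((e * d : ℕ) : ℤ) + n).toNat, Int.toNat_of_nonneg (by omega)⟩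
    have hamem : g ^ (d - 1) • (c • m.1) ∈ ℳ I := by
      rcases hdeg with hdeg | hdeg
      · have h1 : g ^ (d - 1) • (c • m.1) ∈ ℳ ((d - 1) * e + ((l + Q * d) + i)) :=
          SetLike.GradedSMul.smul_mem (A := 𝒜) (B := ℳ) (SetLike.pow_mem_graded (d - 1) hg)
            (SetLike.GradedSMul.smul_mem (A := 𝒜) (B := ℳ) hc m.2)
        have : (d - 1) * e + ((l + Q * d) + i) = I := by
          obtain ⟨d', rfl⟩ : ∃ d', d = d' + 1 := ⟨d - 1, by omega⟩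
          have h2 : e * (d' + 1) = d' * e + e := by ring
          rw [h2] at hI
          simp only [Nat.add_sub_cancel]
          omega
        exact this ▸ h1
      · rw [hdeg, smul_zero, smul_zero]; exact zero_mem _
    have hG : g ^ d ∈ 𝒜 (e * d) := by
      rw [mul_comm]; exact SetLike.pow_mem_graded d hg
    have hnotin : ∀ y : ProjectiveSpectrum 𝒜, g ^ d ∉ y.asHomogeneousIdeal → y ∈ D ∧ y ∈ W := by
      intro y hy
      have hy' : g ∉ y.asHomogeneousIdeal := fun h ↦ hy (Ideal.pow_mem_of_mem _ h d hd)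
      refine ⟨?_, hle y fun h ↦ hy' (Ideal.mul_mem_left _ _ (Ideal.mul_mem_right _ _ h))⟩
      exact fun h ↦ hy' (Ideal.mul_mem_left _ _ (Ideal.mul_mem_left _ _ (Ideal.pow_mem_of_mem _ h Q (by omega))))
    refine ⟨e * d, I, ⟨_, hamem⟩, ⟨_, hG⟩, by omega, Dvd.intro_left _ rfl, hI, ?_,
      fun y hy ↦ (hnotin y hy).1, fun y hy ↦ ?_⟩
    · intro h
      refine (x.1.isPrime.mem_or_mem (x.1.isPrime.mem_of_pow_mem d h)).elim (nin ⟨x.1, hxW⟩) fun h ↦ ?_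
      exact (x.1.isPrime.mem_or_mem h).elim hl (fun h ↦ x.2 (x.1.isPrime.mem_of_pow_mem Q h))
    · refine (hw ⟨y.1, (hnotin y.1 hy).2⟩).trans (LocalizedModule.mk_eq.mpr ⟨1, ?_⟩)
      simp only [Submonoid.smul_def, one_smul, ← mul_smul, g]
      congr 1
      obtain ⟨d', rfl⟩ : ∃ d', d = d' + 1 := ⟨d - 1, by omega⟩
      simp only [Nat.add_sub_cancel, pow_succ]
      ring
  choose E I a G hEpos hdE hIE hxG hGD hval using hloc
  obtain ⟨T, hT⟩ := hN.elim_finite_subcover (fun x : D ↦ {y : ProjectiveSpectrum 𝒜 | (G x).1 ∉ y.asHomogeneousIdeal})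
    (fun x ↦ (ProjectiveSpectrum.basicOpen 𝒜 (G x).1).2) fun y hy ↦ Set.mem_iUnion.mpr ⟨⟨y, hy⟩, hxG ⟨y, hy⟩⟩
  have hpair : ∀ p q : T, ∀ᶠ N in Filter.atTop,
      ((G p.1).1 * (G q.1).1) ^ N • ((G q.1).1 • (a p.1).1 - (G p.1).1 • (a q.1).1) = 0 := by
    intro p q
    have hdg : E q.1 + I p.1 = E p.1 + I q.1 := by
      have h1 := hIE p.1; have h2 := hIE q.1; omega
    have hmem : (G q.1).1 • (a p.1).1 - (G p.1).1 • (a q.1).1 ∈ ℳ (E q.1 + I p.1) :=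
      sub_mem (SetLike.GradedSMul.smul_mem (A := 𝒜) (B := ℳ) (G q.1).2 (a p.1).2)
        (hdg.symm ▸ SetLike.GradedSMul.smul_mem (A := 𝒜) (B := ℳ) (G p.1).2 (a q.1).2)
    obtain ⟨N, hN⟩ := exists_pow_smul_eq_zero 𝒜 ℳ (Nat.add_pos_left (hEpos p.1) (E q.1))
      (SetLike.mul_mem_graded (G p.1).2 (G q.1).2) hmem fun y hy ↦ by
        have hp : (G p.1).1 ∉ y.asHomogeneousIdeal := fun h ↦ hy (Ideal.mul_mem_right _ _ h)
        have hq : (G q.1).1 ∉ y.asHomogeneousIdeal := fun h ↦ hy (Ideal.mul_mem_left _ _ h)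
        have h1 := (hval p.1 ⟨y, hGD p.1 y hp⟩ hp).symm.trans (hval q.1 ⟨y, hGD p.1 y hp⟩ hq)
        obtain ⟨u, hu⟩ := LocalizedModule.mk_eq.mp h1
        exact ⟨u.1, u.2, by rw [smul_sub, sub_eq_zero]; simpa only [Submonoid.smul_def] using hu⟩
    refine Filter.eventually_atTop.2 ⟨N, fun N' hN' ↦ ?_⟩
    rw [← Nat.sub_add_cancel hN', pow_add, mul_smul, hN, smul_zero]
  obtain ⟨N, hN'⟩ := (Filter.eventually_all.2 fun z : T × T ↦ hpair z.1 z.2).exists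
  let G' : T → A := fun p ↦ (G p.1).1 ^ (N + 1)
  let a' : T → M := fun p ↦ (G p.1).1 ^ N • (a p.1).1
  have hrel : ∀ p q : T, G' q • a' p = G' p • a' q := fun p q ↦ by
    have := hN' (p, q)
    rw [smul_sub, sub_eq_zero, smul_smul, smul_smul] at this
    simp only [G', a', smul_smul]
    convert this using 2 <;> ring
  have hG' : ∀ p : T, G' p ∈ 𝒜 ((N + 1) * E p.1) := fun p ↦ SetLike.pow_mem_graded (N + 1) (G p.1).2
  obtain ⟨M₀, hM₀⟩ := mem_radical_of_forall 𝒜 hd hf (E := Set.range G') (by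
      rintro _ ⟨p, rfl⟩; exact ⟨_, hG' p⟩) fun y hy ↦ by
    obtain ⟨p, hp, hyp⟩ := Set.mem_iUnion₂.mp (hT hy)
    exact ⟨_, ⟨⟨p, hp⟩, rfl⟩, fun h ↦ hyp (y.isPrime.mem_of_pow_mem _ h)⟩
  obtain ⟨k, hk₀, hk⟩ : ∃ k, M₀ ≤ k ∧ n.natAbs ≤ k := ⟨max M₀ n.natAbs, le_max_left _ _, le_max_right _ _⟩
  obtain ⟨K, hK⟩ : ∃ K : ℕ, (K : ℤ) = ((k * d : ℕ) : ℤ) + n := by
    have : k ≤ k * d := Nat.le_mul_of_pos_right k hd
    exact ⟨(((k * d : ℕ) : ℤ) + n).toNat, Int.toNat_of_nonneg (by omega)⟩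
  have hfk : f ^ k ∈ Ideal.span (Set.range G') := by
    rw [← Nat.sub_add_cancel hk₀, pow_add]; exact Ideal.mul_mem_left _ _ hM₀
  obtain ⟨r, hr⟩ := Ideal.mem_span_range_iff_exists_fun.mp hfk
  let r' : T → A := fun p ↦
    if (N + 1) * E p.1 ≤ k * d then (DirectSum.decompose 𝒜 (r p) (k * d - (N + 1) * E p.1) : A) else 0
  have hr' : ∑ p, r' p * G' p = f ^ k := by
    conv_rhs => rw [← DirectSum.decompose_of_mem_same 𝒜 (SetLike.pow_mem_graded k hf), ← hr,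
      DirectSum.decompose_sum, DFinsupp.finsetSum_apply, AddSubmonoidClass.coe_finsetSum]
    refine Finset.sum_congr rfl fun p _ ↦ ?_
    rw [smul_eq_mul, coe_decompose_mul_right 𝒜 _ (hG' p)]
    simp only [r']
    split_ifs <;> simp
  have hm : ∑ p, r' p • a' p ∈ ℳ K := sum_mem fun p _ ↦ by
    simp only [r']
    split_ifs with hle
    · have h1 : (DirectSum.decompose 𝒜 (r p) (k * d - (N + 1) * E p.1) : A) • a' p ∈
          ℳ ((k * d - (N + 1) * E p.1) + (N * E p.1 + I p.1)) :=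
        SetLike.GradedSMul.smul_mem (A := 𝒜) (B := ℳ) (SetLike.coe_mem _)
          (SetLike.GradedSMul.smul_mem (A := 𝒜) (B := ℳ) (SetLike.pow_mem_graded N (G p.1).2) (a p.1).2)
      have : (k * d - (N + 1) * E p.1) + (N * E p.1 + I p.1) = K := by
        have h2 := hIE p.1
        have h3 : (N + 1) * E p.1 = N * E p.1 + E p.1 := by ring
        omega
      exact this ▸ h1
    · rw [zero_smul]; exact zero_mem _
  refine ⟨k, K, ⟨_, hm⟩, by rw [hK]; push_cast; ring, fun y ↦ ?_⟩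
  obtain ⟨p, hp, hyp⟩ := Set.mem_iUnion₂.mp (hT y.2)
  rw [hval p y hyp, LocalizedModule.mk_eq]
  refine ⟨⟨(G p).1 ^ N, fun h ↦ hyp (y.1.isPrime.mem_of_pow_mem _ h)⟩, ?_⟩
  simp only [Submonoid.smul_def, smul_smul]
  have key : G' ⟨p, hp⟩ • ∑ q, r' q • a' q = f ^ k • a' ⟨p, hp⟩ := by
    rw [Finset.smul_sum, ← hr', Finset.sum_smul]
    refine Finset.sum_congr rfl fun q _ ↦ ?_
    rw [smul_comm, hrel q ⟨p, hp⟩, smul_smul]
  simp only [G', a', smul_smul] at key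
  rw [mul_comm _ (f ^ k), ← key]
  simp only [pow_succ, a', smul_smul]

end Groth.Agent.GrModLib
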