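import Groth.Prelude.Def_GrTwist
import Groth.Agent.GrModLib.QCoh
import Groth.Agent.DCohBridge.QCohDLocal

/-! `O(n)` of a ring graded by additive subgroups is `A(n)~`, hence quasi-coherent. -/

set_option autoImplicit false
set_option backward.isDefEq.respectTransparency false
set_option backward.isDefEq.respectTransparency.types false

noncomputable section

universe u

open CategoryTheory AlgebraicGeometry Opposite TopologicalSpace

namespace Groth.Agent.GrModLib

variable {A σ : Type u} [CommRing A] [SetLike σ A] [AddSubgroupClass σ A] (𝒜 : ℕ → σ) [GradedRing 𝒜]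

instance gradedSMulSelf : SetLike.GradedSMul 𝒜 𝒜 :=
  ⟨fun {_i _j _a _b} ha hb => SetLike.mul_mem_graded ha hb⟩

theorem twistAt_eq (n : ℤ) (x : ProjectiveSpectrum 𝒜) (q : GrTwist.Loc 𝒜 x) :
    q ∈ GrTwist.twistAt 𝒜 n x ↔ (q : GrMod.LocMod 𝒜 (M := A) x) ∈ GrMod.tildeAt 𝒜 𝒜 n x := by
  constructor
  · intro h
    induction h using Submodule.span_induction with
    | mem q h =>
      obtain ⟨i, j, a, s, hs, e, rfl⟩ := h
      exact Submodule.subset_span ⟨i, j, a, s, hs, e, rfl⟩
    | zero => exact zero_mem _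
    | add a b _ _ ha hb => exact add_mem ha hb
    | smul c q _ hq =>
      have : (c • q : GrTwist.Loc 𝒜 x) = ((c • (show GrMod.LocMod 𝒜 (M := A) x from q)) : GrMod.LocMod 𝒜 x) := by
        show c • q = c.val * q
        rw [Algebra.smul_def, HomogeneousLocalization.algebraMap_apply]
      rw [this]
      exact Submodule.smul_mem _ c hq
  · intro h
    refine Submodule.span_induction (p := fun z _ => (show GrTwist.Loc 𝒜 x from z) ∈ GrTwist.twistAt 𝒜 n x)
      ?_ ?_ ?_ ?_ h
    · rintro q ⟨i, j, a, s, hs, e, rfl⟩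
      exact Submodule.subset_span ⟨i, j, a, s, hs, e, rfl⟩
    · exact zero_mem _
    · intro a b _ _ ha hb
      exact add_mem ha hb
    · intro c q _ hq
      have : (show GrTwist.Loc 𝒜 x from c • q) = c • (show GrTwist.Loc 𝒜 x from q) := by
        show c.val * (show GrTwist.Loc 𝒜 x from q) = c • (show GrTwist.Loc 𝒜 x from q)
        rw [Algebra.smul_def, HomogeneousLocalization.algebraMap_apply]
      rw [this]
      exact Submodule.smul_mem _ c hq

/-- on sections -/
def twistSect (n : ℤ) (U : (Opens (ProjectiveSpectrum.top 𝒜))ᵒᵖ) :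
    GrTwist.sectN (𝒜 := 𝒜) n U ≃ GrMod.sect 𝒜 𝒜 n U where
  toFun s := ⟨fun x => ⟨(s.1 x).1, (twistAt_eq 𝒜 n x.1 _).1 (s.1 x).2⟩, s.2⟩
  invFun s := ⟨fun x => ⟨(s.1 x).1, (twistAt_eq 𝒜 n x.1 _).2 (s.1 x).2⟩, s.2⟩
  left_inv _ := rfl
  right_inv _ := rfl

/-- the comparison map -/
def twistToTilde (n : ℤ) : GrTwist.twist 𝒜 n ⟶ GrMod.tilde 𝒜 𝒜 n :=
  ⟨PresheafOfModules.homMk
    { app := fun U => AddCommGrpCat.ofHom
        { toFun := twistSect 𝒜 n U
          map_zero' := Subtype.ext (funext fun _ => Subtype.ext rfl)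
          map_add' := fun _ _ => Subtype.ext (funext fun _ => Subtype.ext rfl) }
      naturality := fun _ _ _ => rfl }
    fun U r s => Subtype.ext (funext fun x => Subtype.ext (by
      refine (GrTwist.coe_smul_val n x.1 _ _).trans (Eq.trans ?_ (GrMod.coe_smul_val n x.1 _ _).symm)
      rfl))⟩

instance isIso_twistToTilde (n : ℤ) : IsIso (twistToTilde 𝒜 n) := by
  rw [Scheme.Modules.Hom.isIso_iff_isIso_app]
  intro U
  rw [ConcreteCategory.isIso_iff_bijective]
  exact (twistSect 𝒜 n (op U)).bijective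

theorem isQuasicoherent_twist (n : ℤ) : (GrTwist.twist 𝒜 n).IsQuasicoherent :=
  TensorMod.isQCoh_of_iso (asIso (twistToTilde 𝒜 n)).symm (isQuasicoherent_tilde 𝒜 𝒜 n)

/-- a module mapped bijectively, inside the range of an open immersion, to a direct image restricts to that module -/
theorem isIso_restrict_adjunct {X Y : Scheme.{u}} (f : X ⟶ Y) [IsOpenImmersion f] {M : Y.Modules} {N : X.Modules}
    (φ : M ⟶ (Scheme.Modules.pushforward f).obj N)
    (h : ∀ W : Y.Opens, W ≤ f.opensRange → Function.Bijective (φ.app W)) :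
    IsIso ((Scheme.Modules.restrictFunctor f).map φ ≫ (Scheme.Modules.restrictAdjunction f).counit.app N) := by
  haveI : IsIso ((Scheme.Modules.restrictFunctor f).map φ) := by
    rw [Scheme.Modules.Hom.isIso_iff_isIso_app]
    intro V
    have h1 : IsIso (φ.app (f ''ᵁ V)) :=
      (ConcreteCategory.isIso_iff_bijective _).mpr (h _ (f.image_le_opensRange V))
    exact h1
  exact IsIso.comp_isIso

/-- a module glued from quasi-coherent ones is quasi-coherent -/
theorem isQCoh_of_charts {Y : Scheme.{u}} (L : Y.Modules)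
    (h : ∀ y : Y, ∃ (X : Scheme.{u}) (f : X ⟶ Y) (_ : IsOpenImmersion f) (N : X.Modules)
      (φ : L ⟶ (Scheme.Modules.pushforward f).obj N), y ∈ Set.range f.base ∧ N.IsQuasicoherent ∧
        ∀ W : Y.Opens, W ≤ f.opensRange → Function.Bijective (φ.app W)) : Coh.IsQCoh L := by
  refine DCohBridge.isQCoh_of_local fun y => ?_
  obtain ⟨X, f, hf, N, φ, ⟨x, hx⟩, hN, hφ⟩ := h y
  haveI := isIso_restrict_adjunct f φ hφ
  exact ⟨X, f, hf, x, hx, TensorMod.isQCoh_of_iso
    (asIso ((Scheme.Modules.restrictFunctor f).map φ ≫ (Scheme.Modules.restrictAdjunction f).counit.app N)).symm hN⟩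

end Groth.Agent.GrModLib

end
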